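import Groth.Agent.S16397

/-!
The two degrees of the formal relation ring, and vanishing of the low relations.
-/

open MvPolynomial W4c3tautjacobian

namespace Groth.Agent.TautJac

variable {g : ℕ}

/-- The bidegree with integer values. -/
def wp (g : ℕ) : Var g → ℤ × ℤ := fun v => (((wt g v).1 : ℤ), ((wt g v).2 : ℤ))

theorem weight_wp (d : Var g →₀ ℕ) :
    Finsupp.weight (wp g) d =
      (((Finsupp.weight (wt g) d).1 : ℤ), ((Finsupp.weight (wt g) d).2 : ℤ)) := by
  simp [Finsupp.weight_apply, Finsupp.sum, wp, Prod.ext_iff, Prod.fst_sum, Prod.snd_sum]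

theorem wz_of_wp {P : RelRing g} {a b : ℤ} (h : IsWeightedHomogeneous (wp g) P (a, b)) :
    IsWeightedHomogeneous (S16397.wz g) P a := fun d hd => by
  have := congrArg Prod.fst (h hd)
  rw [weight_wp] at this
  simp only at this
  rw [← this, S16397.weight_wz]
  simp [Finsupp.weight_apply, Finsupp.sum, Prod.fst_sum]

theorem xv_hom (i j : ℤ) : IsWeightedHomogeneous (wp g) (xv g i j) (i, j) := by
  unfold xv
  split_ifs with h1 h2
  · rw [h1.1, h1.2, show (g : RelRing g) = MvPolynomial.C (g : ℚ) by simp]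
    exact isWeightedHomogeneous_C _ _
  · have := isWeightedHomogeneous_X (R := ℚ) (wp g) (some ⟨(i.toNat, j.toNat), h2.2.2⟩)
    simpa [wp, wt, Int.toNat_of_nonneg h2.1, Int.toNat_of_nonneg h2.2.1] using this
  · exact isWeightedHomogeneous_zero _ _ _

theorem dv_hom (p : ℕ × ℕ) {P : RelRing g} {n : ℤ × ℤ} (h : IsWeightedHomogeneous (wp g) P n) :
    IsWeightedHomogeneous (wp g) (dv g p P) (n - ((p.1 : ℤ), (p.2 : ℤ))) := by
  unfold dv
  split_ifs with hp
  · exact h.pderiv (n' := n - ((p.1 : ℤ), (p.2 : ℤ))) (by simp [wp, wt])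
  · exact isWeightedHomogeneous_zero _ _ _

theorem F_hom {P : RelRing g} {n : ℤ × ℤ} (h : IsWeightedHomogeneous (wp g) P n) :
    IsWeightedHomogeneous (wp g) (F g P) (n - (2, 0)) := by
  unfold F
  refine IsWeightedHomogeneous.add ?_ (IsWeightedHomogeneous.sum _ _ _ fun p _ => ?_)
  · refine (weightedHomogeneousSubmodule ℚ (wp g) _).smul_mem _ ?_
    refine IsWeightedHomogeneous.sum _ _ _ fun p _ => IsWeightedHomogeneous.sum _ _ _ fun q _ => ?_
    have hy : IsWeightedHomogeneous (wp g) (X none : RelRing g) (0, 2) := by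
      simpa [wp, wt] using isWeightedHomogeneous_X (R := ℚ) (wp g) none
    have h1 := ((hy.mul (xv_hom ((p.1 : ℤ) - 1) ((p.2 : ℤ) - 1))).mul
      (xv_hom ((q.1 : ℤ) - 1) ((q.2 : ℤ) - 1)))
    have hc : IsWeightedHomogeneous (wp g) (mergeCoeff p.1 q.1 : RelRing g) (0, 0) := by
      rw [show (mergeCoeff p.1 q.1 : RelRing g) = MvPolynomial.C (mergeCoeff p.1 q.1 : ℚ) by simp]
      exact isWeightedHomogeneous_C _ _
    have h2 := hc.mul (xv_hom (g := g) ((p.1 : ℤ) + q.1 - 2) ((p.2 : ℤ) + q.2))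
    rw [show ((0 : ℤ), (2 : ℤ)) + ((p.1 : ℤ) - 1, (p.2 : ℤ) - 1) + ((q.1 : ℤ) - 1, (q.2 : ℤ) - 1) =
      ((0 : ℤ), (0 : ℤ)) + ((p.1 : ℤ) + q.1 - 2, (p.2 : ℤ) + q.2) by ext <;> simp <;> ring] at h1
    have h4 := IsWeightedHomogeneous.mul (h1.sub h2) (dv_hom p (dv_hom q h))
    rw [show ((0 : ℤ), (0 : ℤ)) + ((p.1 : ℤ) + q.1 - 2, (p.2 : ℤ) + q.2) +
      (n - ((q.1 : ℤ), (q.2 : ℤ)) - ((p.1 : ℤ), (p.2 : ℤ))) = n - (2, 0) by ext <;> simp <;> ring] at h4
    exact h4
  · have h4 := (xv_hom (g := g) ((p.1 : ℤ) - 2) p.2).mul (dv_hom p h)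
    rw [show ((p.1 : ℤ) - 2, (p.2 : ℤ)) + (n - ((p.1 : ℤ), (p.2 : ℤ))) = n - (2, 0) by ext <;> simp <;> ring] at h4
    exact h4

theorem iterate_hom {P : RelRing g} {a b : ℤ} (h : IsWeightedHomogeneous (wp g) P (a, b)) (k : ℕ) :
    IsWeightedHomogeneous (wp g) ((F g)^[k] P) (a - 2 * k, b) := by
  induction k with
  | zero => simpa using h
  | succ k ih =>
    rw [Function.iterate_succ_apply']
    have := F_hom ih
    rwa [show (a - 2 * (k : ℤ), b) - (2, 0) = (a - 2 * ((k + 1 : ℕ) : ℤ), b) by ext <;> simp; ring] at this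

/-- `F ^ k` kills `E ^ m M` when the first degree of `E ^ m M` is `2k > 2g ≥` that of `M`. -/
theorem iterate_F_E_eq_zero (hg : 1 ≤ g) {M : RelRing g} {a : ℤ} (hM : IsWeightedHomogeneous (S16397.wz g) M a)
    (ha : a ≤ 2 * g) : ∀ (m k : ℕ), a + 2 * m = 2 * k → g < k → (F g)^[k] ((E g)^[m] M) = 0 := by
  have hE : ∀ m : ℕ, IsWeightedHomogeneous (S16397.wz g) ((E g)^[m] M) (a + 2 * m) := fun m => by
    induction m with
    | zero => simpa using hM
    | succ m ih =>
      rw [Function.iterate_succ_apply']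
      have := (S16397.xv_hom (g := g) 2 0).mul ih
      rwa [show (2 : ℤ) + (a + 2 * m) = a + 2 * ((m + 1 : ℕ) : ℤ) by push_cast; ring] at this
  intro m
  induction m with
  | zero => intro k hk hgk; exfalso; omega
  | succ m ih =>
    intro k hk hgk
    obtain ⟨k, rfl⟩ : ∃ k', k = k' + 1 := ⟨k - 1, by omega⟩
    rw [Function.iterate_succ_apply' (E g) m]
    obtain ⟨h1, h2⟩ := S16397.iterate_comm hg (hE m) k
    have hz : (F g)^[k + 1] ((E g)^[m] M) = 0 := by
      refine S16397.hom_neg (n := a + 2 * m - 2 * k - 2) ?_ (by omega)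
      rw [Function.iterate_succ_apply']
      exact S16397.F_hom h1
    rw [h2, hz]
    simp only [E, mul_zero, zero_add]
    rcases Nat.lt_or_ge g k with h | h
    · rw [show (F g)^[k] ((E g)^[m] M) = 0 from ih k (by omega) h, smul_zero]
    · obtain rfl : k = g := by omega
      rw [show ((k : ℚ) + 1) * ((k : ℚ) - ((a + 2 * m : ℤ) : ℚ)) + k * ((k : ℚ) + 1) = 0 from ?_, zero_smul]
      rw [show a + 2 * (m : ℤ) = 2 * k by omega]
      push_cast
      ring

theorem iterate_E_eq (m : ℕ) (P : RelRing g) : (E g)^[m] P = xv g 2 0 ^ m * P := by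
  induction m with
  | zero => simp
  | succ m ih => rw [Function.iterate_succ_apply', ih, E, pow_succ', mul_assoc]

/-- The relations of first degree zero start in second degree above `2g / 3`. -/
theorem iterate_F_monomial_eq_zero (hg : 1 ≤ g) (d : Var g →₀ ℕ) (k : ℕ)
    (h1 : ((Finsupp.weight (wt g) d).1 : ℤ) = 2 * k) (hk : g < k)
    (h2 : 3 * (Finsupp.weight (wt g) d).2 ≤ 2 * g) : (F g)^[k] (monomial d 1) = 0 := by
  have ht : Valid g (2, 0) := ⟨by omega, by simp; omega, by decide, by decide⟩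
  let t : Var g := some ⟨(2, 0), ht⟩
  let d' := d.erase t
  have hsplit : monomial d (1 : ℚ) = (E g)^[d t] (monomial d' 1) := by
    rw [iterate_E_eq, show xv g 2 0 = X t by simp [xv, ht, t], X_pow_eq_monomial, monomial_mul, one_mul]
    simp [d', Finsupp.single_add_erase]
  have hd : Finsupp.weight (wt g) d = d t • (2, 0) + Finsupp.weight (wt g) d' := by
    conv_lhs => rw [← Finsupp.single_add_erase t d]
    rw [map_add, Finsupp.weight_single]
    rfl
  rw [hsplit]
  have hle : (Finsupp.weight (wt g) d').1 ≤ 3 * (Finsupp.weight (wt g) d').2 := by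
    simp only [Finsupp.weight_apply, Finsupp.sum, Prod.fst_sum, Prod.snd_sum, Finset.mul_sum, Prod.smul_fst, Prod.smul_snd]
    refine Finset.sum_le_sum fun v hv => ?_
    have hvt : v ≠ t := fun h => by simp [d', h] at hv
    rcases v with _ | ⟨⟨i, j⟩, hij⟩
    · simp [wt]
    · obtain ⟨a1, a2, a3, a4⟩ := hij
      simp only [wt, smul_eq_mul]
      have : i ≤ 3 * j := by
        rcases Nat.eq_zero_or_pos j with rfl | hj
        · rcases (show i = 0 ∨ i = 1 ∨ i = 2 by simp only at a1; omega) with rfl | rfl | rfl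
          · exact absurd rfl a4
          · simp at a3
          · exact absurd rfl hvt
        · simp only at a1; omega
      calc d' _ * i ≤ d' _ * (3 * j) := Nat.mul_le_mul_left _ this
        _ = 3 * (d' _ * j) := by ring
  rw [hd] at h1 h2
  simp only [Prod.fst_add, Prod.snd_add, Prod.smul_fst, Prod.smul_snd, smul_eq_mul, mul_zero, zero_add] at h1 h2
  refine iterate_F_E_eq_zero hg (a := ((Finsupp.weight (wt g) d').1 : ℤ)) (wz_of_wp (b := ((Finsupp.weight (wt g) d').2 : ℤ))
    (isWeightedHomogeneous_monomial _ _ _ (weight_wp d'))) (by exact_mod_cast hle.trans h2) (d t) k ?_ hk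
  push_cast at h1
  linarith

theorem eq_zero_of_mem_relIdeal (hg : 1 ≤ g) (n : ℕ) (hn : 3 * n ≤ 2 * g) (P : RelRing g) (hP : P ∈ relIdeal g)
    (hhom : IsWeightedHomogeneous (wp g) P ((0, n) : ℤ × ℤ)) : P = 0 := by
  classical
  suffices h : ∀ c : RelRing g, weightedHomogeneousComponent (wp g) ((0, n) : ℤ × ℤ) (c * P) = 0 by
    have := h 1
    rwa [one_mul, hhom.weightedHomogeneousComponent_same] at this
  intro c
  clear hhom
  induction hP using Submodule.span_induction generalizing c with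
  | mem R hR =>
    obtain ⟨d, k, hdk, rfl⟩ := hR
    induction c using MvPolynomial.induction_on' with
    | add p q hp hq => rw [add_mul, map_add, hp, hq, add_zero]
    | monomial e r =>
      have hR := iterate_hom (isWeightedHomogeneous_monomial (wp g) d (1 : ℚ) (weight_wp d)) k
      by_cases hR0 : (F g)^[k] (monomial d (1 : ℚ)) = 0
      · rw [hR0, mul_zero, map_zero]
      have h0 : 0 ≤ ((Finsupp.weight (wt g) d).1 : ℤ) - 2 * k := by
        by_contra hlt
        exact hR0 (S16397.hom_neg (wz_of_wp hR) (by omega))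
      have hprod := (isWeightedHomogeneous_monomial (wp g) e r (weight_wp e)).mul hR
      refine hprod.weightedHomogeneousComponent_ne _ fun he => hR0 ?_
      simp only [Prod.ext_iff, Prod.fst_add, Prod.snd_add] at he
      exact iterate_F_monomial_eq_zero hg d k (by omega) (by omega) (by omega)
  | zero => simp
  | add a b _ _ ha hb => rw [mul_add, map_add, ha, hb, add_zero]
  | smul r a _ ha => rw [smul_eq_mul, ← mul_assoc, ha]

end Groth.Agent.TautJac
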