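import Groth.Agent.TautJac.Basic

/-!
Each symbol `x 0 (2i)` with `3i > g` is expressible modulo the relations: the linear coefficient of
`F ^ (3i) (x 3 1 ^ (2i))` is nonzero, all its contributions having the same sign.
-/

open MvPolynomial W4c3tautjacobian

namespace Groth.Agent.TautJac

variable {g : ℕ}

/-- Scale the symbols `x` by `-1` and kill `y`. -/
def sgn (g : ℕ) : Var g → ℚ
  | none => 0
  | some _ => -1

/-- The substitution `y ↦ 0`, `x ↦ -x`. -/
noncomputable def twist (g : ℕ) : RelRing g →ₐ[ℚ] RelRing g :=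
  aeval fun v => MvPolynomial.C (sgn g v) * X v

theorem coeff_twist (P : RelRing g) (d : Var g →₀ ℕ) :
    coeff d (twist g P) = (d.prod fun v n => sgn g v ^ n) * coeff d P := by
  induction P using MvPolynomial.induction_on' with
  | add a b ha hb => simp only [map_add, coeff_add, ha, hb, mul_add]
  | monomial e r =>
    have : twist g (monomial e r) = monomial e (r * e.prod fun v n => sgn g v ^ n) := by
      rw [twist, aeval_monomial, monomial_eq (a := r * _), map_mul MvPolynomial.C, mul_assoc]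
      congr 1
      simp only [mul_pow, Finsupp.prod, Finset.prod_mul_distrib, map_prod, map_pow]
    rw [this]
    classical
    rw [coeff_monomial, coeff_monomial]
    split_ifs with h
    · subst h; ring
    · ring

theorem twist_dv (p : ℕ × ℕ) (P : RelRing g) : twist g (dv g p P) = -dv g p (twist g P) := by
  unfold dv
  split_ifs with hp
  · induction P using MvPolynomial.induction_on with
    | C a => simp [twist]
    | add a b ha hb => simp only [map_add, ha, hb, neg_add]
    | mul_X q v hq =>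
      have hv : twist g (pderiv (some ⟨p, hp⟩) (X v)) = -pderiv (some ⟨p, hp⟩) (twist g (X v)) := by
        classical
        rw [twist, aeval_X, pderiv_C_mul, pderiv_X]
        by_cases h : (some ⟨p, hp⟩ : Var g) = v
        · subst h; simp [sgn]
        · simp [Pi.single_eq_of_ne h, Ne.symm h]
      simp only [pderiv_mul, map_add, map_mul, hq, hv]
      ring
  · simp

/-- The twisted operator: all its coefficients on symbols of positive second degree are nonnegative. -/
noncomputable def G (g : ℕ) (Q : RelRing g) : RelRing g :=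
  (1 / 2 : ℚ) • (∑ p ∈ idx g, ∑ q ∈ idx g,
      -twist g ((mergeCoeff p.1 q.1 : RelRing g) * xv g ((p.1 : ℤ) + q.1 - 2) ((p.2 : ℤ) + q.2))
        * dv g p (dv g q Q))
    + ∑ p ∈ idx g, -twist g (xv g ((p.1 : ℤ) - 2) (p.2 : ℤ)) * dv g p Q

theorem twist_F (P : RelRing g) : twist g (F g P) = G g (twist g P) := by
  have hy : twist g (X none) = 0 := by simp [twist, sgn]
  have hneg : ∀ (p : ℕ × ℕ) (Q : RelRing g), dv g p (-Q) = -dv g p Q := fun p Q => by
    unfold dv; split_ifs <;> simp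
  simp only [F, G, map_add, map_smul, map_sum, map_mul, map_sub, hy, zero_mul, zero_sub, twist_dv, hneg, neg_neg,
    mul_neg, neg_mul, Finset.sum_neg_distrib]

theorem twist_iterate (k : ℕ) (P : RelRing g) : twist g ((F g)^[k] P) = (G g)^[k] (twist g P) := by
  induction k with
  | zero => rfl
  | succ k ih => rw [Function.iterate_succ_apply', Function.iterate_succ_apply', twist_F, ih]

/-- Polynomials with nonnegative coefficients in the symbols of positive second degree. -/
noncomputable def Pos (g : ℕ) : Subsemiring (RelRing g) :=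
  Subsemiring.closure ({P | ∃ c : ℚ, 0 ≤ c ∧ P = MvPolynomial.C c} ∪
    {P | ∃ (p : ℕ × ℕ) (h : Valid g p), 1 ≤ p.2 ∧ P = X (some ⟨p, h⟩)})

theorem C_mem_pos {c : ℚ} (hc : 0 ≤ c) : MvPolynomial.C c ∈ Pos g :=
  Subsemiring.subset_closure (Or.inl ⟨c, hc, rfl⟩)

theorem smul_mem_pos {c : ℚ} (hc : 0 ≤ c) {P : RelRing g} (hP : P ∈ Pos g) : c • P ∈ Pos g := by
  rw [smul_eq_C_mul]; exact mul_mem (C_mem_pos hc) hP

theorem xv_mem_pos (i : ℤ) {j : ℤ} (hj : 1 ≤ j) : xv g i j ∈ Pos g ∧ twist g (xv g i j) = -xv g i j := by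
  unfold xv
  split_ifs with h1 h2
  · omega
  · exact ⟨Subsemiring.subset_closure (Or.inr ⟨_, h2.2.2, by simp; omega, rfl⟩), by simp [twist, sgn]⟩
  · exact ⟨zero_mem _, by simp⟩

theorem coeff_nonneg {P : RelRing g} (hP : P ∈ Pos g) (d : Var g →₀ ℕ) : 0 ≤ coeff d P := by
  classical
  induction hP using Subsemiring.closure_induction generalizing d with
  | mem x hx =>
    rcases hx with ⟨c, hc, rfl⟩ | ⟨p, h, -, rfl⟩
    · rw [coeff_C]; split_ifs <;> simp [hc]
    · rw [coeff_X']; split_ifs <;> simp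
  | zero => simp
  | one => rw [coeff_one]; split_ifs <;> simp
  | add a b _ _ ha hb => rw [coeff_add]; exact add_nonneg (ha d) (hb d)
  | mul a b _ _ ha hb =>
    rw [coeff_mul]
    exact Finset.sum_nonneg fun x _ => mul_nonneg (ha x.1) (hb x.2)

theorem dv_mul (p : ℕ × ℕ) (a b : RelRing g) : dv g p (a * b) = dv g p a * b + a * dv g p b := by
  unfold dv; split_ifs <;> simp [pderiv_mul] <;> ring

theorem dv_mem_pos (p : ℕ × ℕ) {P : RelRing g} (hP : P ∈ Pos g) :
    dv g p P ∈ Pos g ∧ (p.2 = 0 → dv g p P = 0) := by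
  classical
  induction hP using Subsemiring.closure_induction with
  | mem x hx =>
    rcases hx with ⟨c, hc, rfl⟩ | ⟨q, h, hq, rfl⟩
    · simp [dv, zero_mem]
    · unfold dv
      split_ifs with hp
      · rw [pderiv_X]
        by_cases hpq : p = q
        · subst hpq
          exact ⟨by simp [one_mem], fun h0 => by omega⟩
        · simp [Pi.single_eq_of_ne, Ne.symm, hpq, zero_mem]
      · exact ⟨zero_mem _, fun _ => rfl⟩
  | zero => simp [dv, zero_mem]
  | one => simp [dv, zero_mem]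
  | add a b _ _ ha hb =>
    rw [S16397.dv_add]
    exact ⟨add_mem ha.1 hb.1, fun h => by rw [ha.2 h, hb.2 h, add_zero]⟩
  | mul a b ha' hb' ha hb =>
    rw [dv_mul]
    exact ⟨add_mem (mul_mem ha.1 hb') (mul_mem ha' hb.1), fun h => by rw [ha.2 h, hb.2 h, zero_mul, mul_zero, add_zero]⟩

theorem mergeTerm_mem (p q : ℕ × ℕ) {P : RelRing g} (hP : P ∈ Pos g) :
    -twist g ((mergeCoeff p.1 q.1 : RelRing g) * xv g ((p.1 : ℤ) + q.1 - 2) ((p.2 : ℤ) + q.2))
        * dv g p (dv g q P) ∈ Pos g := by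
  rcases Nat.eq_zero_or_pos q.2 with h | h
  · rw [(dv_mem_pos q hP).2 h]; simp [dv, zero_mem]
  · obtain ⟨h1, h2⟩ := xv_mem_pos (g := g) ((p.1 : ℤ) + q.1 - 2) (j := (p.2 : ℤ) + q.2) (by omega)
    rw [map_mul, map_natCast, h2, mul_neg, neg_neg]
    exact mul_mem (mul_mem (natCast_mem _ _) h1) (dv_mem_pos p (dv_mem_pos q hP).1).1

theorem shiftTerm_mem (p : ℕ × ℕ) {P : RelRing g} (hP : P ∈ Pos g) :
    -twist g (xv g ((p.1 : ℤ) - 2) (p.2 : ℤ)) * dv g p P ∈ Pos g := by
  rcases Nat.eq_zero_or_pos p.2 with h | h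
  · rw [(dv_mem_pos p hP).2 h, mul_zero]; exact zero_mem _
  · obtain ⟨h1, h2⟩ := xv_mem_pos (g := g) ((p.1 : ℤ) - 2) (j := (p.2 : ℤ)) (by omega)
    rw [h2, neg_neg]
    exact mul_mem h1 (dv_mem_pos p hP).1

theorem G_mem_pos {P : RelRing g} (hP : P ∈ Pos g) : G g P ∈ Pos g :=
  add_mem (smul_mem_pos (by norm_num) (sum_mem fun p _ => sum_mem fun q _ => mergeTerm_mem p q hP))
    (sum_mem fun p _ => shiftTerm_mem p hP)

theorem dv_sub (p : ℕ × ℕ) (a b : RelRing g) : dv g p (a - b) = dv g p a - dv g p b := by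
  unfold dv; split_ifs <;> simp

theorem G_sub (a b : RelRing g) : G g (a - b) = G g a - G g b := by
  simp only [G, dv_sub, mul_sub, Finset.sum_sub_distrib, smul_sub]
  abel

theorem G_smul (c : ℚ) (a : RelRing g) : G g (c • a) = c • G g a := by
  simp only [G, S16397.dv_smul, mul_smul_comm, ← Finset.smul_sum, smul_add, smul_smul, mul_comm c]

theorem G_merge {a b : ℕ × ℕ} (ha : Valid g a) (hb : Valid g b) (ha2 : 1 ≤ a.2) (hb2 : 1 ≤ b.2)
    {M : RelRing g} (hM : M ∈ Pos g) :
    G g (X (some ⟨a, ha⟩) * (X (some ⟨b, hb⟩) * M)) -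
      ((1 / 2 : ℚ) * mergeCoeff a.1 b.1) • (xv g ((a.1 : ℤ) + b.1 - 2) ((a.2 : ℤ) + b.2) * M) ∈ Pos g := by
  classical
  have hXa : X (some ⟨a, ha⟩) ∈ Pos g := Subsemiring.subset_closure (Or.inr ⟨a, ha, ha2, rfl⟩)
  have hXb : X (some ⟨b, hb⟩) ∈ Pos g := Subsemiring.subset_closure (Or.inr ⟨b, hb, hb2, rfl⟩)
  set P := X (some ⟨a, ha⟩) * (X (some ⟨b, hb⟩) * M) with hP
  have hPm : P ∈ Pos g := mul_mem hXa (mul_mem hXb hM)
  obtain ⟨h1, h2⟩ := xv_mem_pos (g := g) ((a.1 : ℤ) + b.1 - 2) (j := (a.2 : ℤ) + b.2) (by omega)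
  have hd1 : dv g b (X (some ⟨b, hb⟩) : RelRing g) = 1 := by simp [dv, hb]
  have hd2 : dv g a (X (some ⟨a, ha⟩) : RelRing g) = 1 := by simp [dv, ha]
  have hd : dv g a (dv g b P) - M ∈ Pos g := by
    have : dv g a (dv g b P) - M = dv g a (dv g b (X (some ⟨a, ha⟩))) * (X (some ⟨b, hb⟩) * M) +
        dv g b (X (some ⟨a, ha⟩)) * dv g a (X (some ⟨b, hb⟩) * M) + X (some ⟨b, hb⟩) * dv g b M +
        X (some ⟨a, ha⟩) * dv g a (M + X (some ⟨b, hb⟩) * dv g b M) := by
      rw [hP, dv_mul b, dv_mul b (X (some ⟨b, hb⟩)) M, hd1, one_mul, S16397.dv_add, dv_mul, dv_mul a (X (some ⟨a, ha⟩)),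
        hd2, one_mul]
      ring
    rw [this]
    refine add_mem (add_mem (add_mem ?_ ?_) ?_) ?_
    · exact mul_mem (dv_mem_pos a (dv_mem_pos b hXa).1).1 (mul_mem hXb hM)
    · exact mul_mem (dv_mem_pos b hXa).1 (dv_mem_pos a (mul_mem hXb hM)).1
    · exact mul_mem hXb (dv_mem_pos b hM).1
    · exact mul_mem hXa (dv_mem_pos a (add_mem hM (mul_mem hXb (dv_mem_pos b hM).1))).1
  set f : ℕ × ℕ → ℕ × ℕ → RelRing g := fun p q =>
    -twist g ((mergeCoeff p.1 q.1 : RelRing g) * xv g ((p.1 : ℤ) + q.1 - 2) ((p.2 : ℤ) + q.2)) * dv g p (dv g q P) with hf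
  have hai := S16397.valid_mem_idx ha
  have hbi := S16397.valid_mem_idx hb
  have hfab : f a b = (mergeCoeff a.1 b.1 : RelRing g) * xv g ((a.1 : ℤ) + b.1 - 2) ((a.2 : ℤ) + b.2) * dv g a (dv g b P) := by
    simp only [hf, map_mul, map_natCast, h2, mul_neg, neg_neg]
  have : G g P - ((1 / 2 : ℚ) * mergeCoeff a.1 b.1) • (xv g ((a.1 : ℤ) + b.1 - 2) ((a.2 : ℤ) + b.2) * M) =
      (1 / 2 : ℚ) • (((mergeCoeff a.1 b.1 : RelRing g) * xv g ((a.1 : ℤ) + b.1 - 2) ((a.2 : ℤ) + b.2)) * (dv g a (dv g b P) - M) +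
        (∑ q ∈ (idx g).erase b, f a q + ∑ p ∈ (idx g).erase a, ∑ q ∈ idx g, f p q)) +
      ∑ p ∈ idx g, -twist g (xv g ((p.1 : ℤ) - 2) (p.2 : ℤ)) * dv g p P := by
    rw [show G g P = (1 / 2 : ℚ) • (∑ p ∈ idx g, ∑ q ∈ idx g, f p q) +
      ∑ p ∈ idx g, -twist g (xv g ((p.1 : ℤ) - 2) (p.2 : ℤ)) * dv g p P from rfl,
      ← Finset.add_sum_erase _ _ hai, ← Finset.add_sum_erase _ (f a) hbi, hfab]
    simp only [smul_eq_C_mul, map_mul, map_natCast]
    ring
  rw [this]
  exact add_mem (smul_mem_pos (by norm_num) (add_mem (mul_mem (mul_mem (natCast_mem _ _) h1) hd)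
    (add_mem (sum_mem fun q _ => mergeTerm_mem a q hPm) (sum_mem fun p _ => sum_mem fun q _ => mergeTerm_mem p q hPm))))
    (sum_mem fun p _ => shiftTerm_mem p hPm)

theorem G_shift {a : ℕ × ℕ} (ha : Valid g a) (ha2 : 1 ≤ a.2) :
    G g (X (some ⟨a, ha⟩)) - xv g ((a.1 : ℤ) - 2) (a.2 : ℤ) ∈ Pos g := by
  classical
  have hXa : X (some ⟨a, ha⟩) ∈ Pos g := Subsemiring.subset_closure (Or.inr ⟨a, ha, ha2, rfl⟩)
  obtain ⟨h1, h2⟩ := xv_mem_pos (g := g) ((a.1 : ℤ) - 2) (j := (a.2 : ℤ)) (by omega)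
  unfold G
  rw [← Finset.add_sum_erase _ (fun p => -twist g (xv g ((p.1 : ℤ) - 2) (p.2 : ℤ)) * dv g p (X (some ⟨a, ha⟩))) (S16397.valid_mem_idx ha), h2, neg_neg,
    show dv g a (X (some ⟨a, ha⟩) : RelRing g) = 1 by simp [dv, ha], mul_one, ← add_assoc, add_right_comm,
    add_sub_cancel_right]
  exact add_mem (smul_mem_pos (by norm_num) (sum_mem fun p _ => sum_mem fun q _ => mergeTerm_mem p q hXa))
    (sum_mem fun p _ => shiftTerm_mem p hXa)

theorem step_le {P u u' : RelRing g} {c c' : ℚ} (hc : 0 ≤ c) (h : P - c • u ∈ Pos g) (h' : G g u - c' • u' ∈ Pos g) :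
    G g P - (c * c') • u' ∈ Pos g := by
  have : G g P - (c * c') • u' = G g (P - c • u) + c • (G g u - c' • u') := by
    rw [G_sub, G_smul, smul_sub, smul_smul]
    abel
  rw [this]
  exact add_mem (G_mem_pos h) (smul_mem_pos hc h')

theorem xv_eq {p : ℕ × ℕ} (h : Valid g p) (a b : ℤ) (ha : a = p.1) (hb : b = p.2) :
    xv g a b = X (some ⟨p, h⟩) := by
  subst ha hb
  have h0 : ¬ ((p.1 : ℤ) = 0 ∧ (p.2 : ℤ) = 0) := fun hh => h.2.2.2 (Prod.ext (by simp only; omega) (by simp only; omega))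
  rw [xv, if_neg h0, dif_pos ⟨by omega, by omega, by simpa using h⟩]
  simp

/-- The linear coefficient of the twisted relation is positive. -/
theorem exists_pos_coeff (i : ℕ) (hi : 1 ≤ i) (hig : i + 1 ≤ g) (h31 : Valid g (3, 1)) :
    ∃ c : ℚ, 0 < c ∧ (G g)^[3 * i] (X (some ⟨(3, 1), h31⟩) ^ (2 * i)) - c • xv g 0 (2 * (i : ℤ)) ∈ Pos g := by
  have hX : X (some ⟨(3, 1), h31⟩) ∈ Pos g := Subsemiring.subset_closure (Or.inr ⟨_, h31, le_rfl, rfl⟩)
  set P : RelRing g := X (some ⟨(3, 1), h31⟩) ^ (2 * i) with hP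
  have hval : ∀ t : ℕ, t + 1 ≤ 2 * i → Valid g (t + 3, t + 1) := fun t ht =>
    ⟨by simp, by simp; omega, ⟨t + 2, by simp; ring⟩, by simp⟩
  have hA : ∀ t : ℕ, ∀ ht : t + 1 ≤ 2 * i, ∃ c : ℚ, 0 < c ∧
      (G g)^[t] P - c • (X (some ⟨(t + 3, t + 1), hval t ht⟩) * X (some ⟨(3, 1), h31⟩) ^ (2 * i - 1 - t)) ∈ Pos g := by
    intro t
    induction t with
    | zero =>
      intro ht
      refine ⟨1, one_pos, ?_⟩
      rw [one_smul, Function.iterate_zero_apply, hP, ← pow_succ', show 2 * i - 1 - 0 + 1 = 2 * i by omega, sub_self]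
      exact zero_mem _
    | succ t ih =>
      intro ht
      obtain ⟨c, hc, hmem⟩ := ih (by omega)
      rw [show 2 * i - 1 - t = (2 * i - 1 - (t + 1)) + 1 by omega, pow_succ'] at hmem
      have hm : 0 < mergeCoeff (t + 3) 3 := by
        rw [mergeCoeff, if_neg (by omega)]
        exact Nat.choose_pos (by omega)
      refine ⟨c * ((1 / 2 : ℚ) * mergeCoeff (t + 3) 3), by positivity, ?_⟩
      rw [Function.iterate_succ_apply']
      refine step_le hc.le hmem ?_
      have := G_merge (hval t (by omega)) h31 (by simp) le_rfl (pow_mem hX (2 * i - 1 - (t + 1)))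
      convert this using 4
      exact (xv_eq (hval (t + 1) ht) _ _ (by push_cast; ring) (by push_cast; ring)).symm
  have hB : ∀ s : ℕ, s ≤ i + 1 → ∃ c : ℚ, 0 < c ∧
      (G g)^[2 * i - 1 + s] P - c • xv g (((2 * i + 2 - 2 * s : ℕ)) : ℤ) ((2 * i : ℕ) : ℤ) ∈ Pos g := by
    intro s
    induction s with
    | zero =>
      intro _
      obtain ⟨c, hc, hmem⟩ := hA (2 * i - 1) (by omega)
      refine ⟨c, hc, ?_⟩
      rw [show 2 * i - 1 - (2 * i - 1) = 0 by omega, pow_zero, mul_one] at hmem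
      rw [add_zero]
      convert hmem using 3
      exact xv_eq (hval (2 * i - 1) (by omega)) _ _ (by simp; omega) (by simp; omega)
    | succ s ih =>
      intro hs
      obtain ⟨c, hc, hmem⟩ := ih (by omega)
      have hv : Valid g (2 * i + 2 - 2 * s, 2 * i) :=
        ⟨by simp, by simp; omega, ⟨2 * i + 1 - s, by simp; omega⟩, by simp; omega⟩
      rw [xv_eq hv _ _ rfl rfl] at hmem
      refine ⟨c * 1, by positivity, ?_⟩
      rw [← add_assoc, Function.iterate_succ_apply']
      refine step_le hc.le hmem ?_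
      rw [one_smul]
      convert G_shift hv (by simp; omega) using 2
      · congr 1
        simp only
        omega
  obtain ⟨c, hc, hmem⟩ := hB (i + 1) le_rfl
  refine ⟨c, hc, ?_⟩
  rw [show 2 * i - 1 + (i + 1) = 3 * i by omega, show 2 * i + 2 - 2 * (i + 1) = 0 by omega] at hmem
  simpa [hP] using hmem

theorem xv_mem_of_high (hg : 1 ≤ g) (i : ℕ) (hi : 1 ≤ i) (hig : g < 3 * i) (hv : Valid g (0, 2 * i))
    (S : Subalgebra ℚ (RelRing g)) (hS : ∀ P ∈ relIdeal g, P ∈ S)
    (hy : (X none : RelRing g) ∈ S) (hlow : ∀ j < i, xv g 0 (2 * (j : ℤ)) ∈ S) : xv g 0 (2 * (i : ℤ)) ∈ S := by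
  classical
  obtain ⟨hv1, hv2, hv3, hv4⟩ := id hv
  simp only at hv2
  have h31 : Valid g (3, 1) := ⟨le_rfl, by simp; omega, by decide, by decide⟩
  set v : Var g := some ⟨(0, 2 * i), hv⟩
  have hxv : xv g 0 (2 * (i : ℤ)) = X v := by
    rw [xv, if_neg (by omega), dif_pos ⟨le_rfl, by omega, by simpa [show (2 * (i : ℤ)).toNat = 2 * i by omega] using hv⟩]
    congr 2
  set d31 : Var g →₀ ℕ := Finsupp.single (some ⟨(3, 1), h31⟩) (2 * i)
  set R := (F g)^[3 * i] (monomial d31 (1 : ℚ)) with hR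
  have hw : Finsupp.weight (wt g) d31 = (6 * i, 2 * i) := by
    simp [d31, Finsupp.weight_single, wt]; ring
  have hmem : R ∈ relIdeal g := Ideal.subset_span ⟨d31, 3 * i, by rw [hw]; simp; omega, rfl⟩
  have hhom : IsWeightedHomogeneous (wp g) R (0, ((2 * i : ℕ) : ℤ)) := by
    have := iterate_hom (isWeightedHomogeneous_monomial (wp g) d31 (1 : ℚ) (weight_wp d31)) (3 * i)
    rw [hw] at this
    simp only [show ((6 * i : ℕ) : ℤ) - 2 * ((3 * i : ℕ) : ℤ) = 0 by push_cast; ring] at this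
    exact this
  -- the linear coefficient
  have hc : coeff (Finsupp.single v 1) R ≠ 0 := by
    obtain ⟨c, hc, hpos⟩ := exists_pos_coeff i hi (by omega) h31
    have h1 := coeff_nonneg hpos (Finsupp.single v 1)
    have h2 : twist g (monomial d31 (1 : ℚ)) = X (some ⟨(3, 1), h31⟩) ^ (2 * i) := by
      simp [d31, ← X_pow_eq_monomial, twist, sgn, Even.neg_pow (even_two_mul i)]
    rw [coeff_sub, coeff_smul, hxv, coeff_X', if_pos rfl, ← h2, ← twist_iterate, coeff_twist,
      Finsupp.prod_single_index (by simp), pow_one] at h1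
    simp only [smul_eq_mul, mul_one, v, sgn] at h1
    intro h0
    rw [← hR, h0] at h1
    linarith
  -- all other monomials only involve `y` and lower symbols
  have hrest : ∀ d ∈ R.support, d ≠ Finsupp.single v 1 → monomial d (coeff d R) ∈ S := by
    intro d hd hne
    have hwd := hhom (mem_support_iff.1 hd)
    rw [weight_wp] at hwd
    simp only [Prod.ext_iff, Nat.cast_inj, Nat.cast_eq_zero] at hwd
    rw [monomial_eq]
    refine mul_mem (S.algebraMap_mem _) (prod_mem fun w hwmem => pow_mem ?_ _)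
    have hdw : 1 ≤ d w := Nat.one_le_iff_ne_zero.2 (Finsupp.mem_support_iff.1 hwmem)
    have hle : d w • wt g w + Finsupp.weight (wt g) (d.erase w) = Finsupp.weight (wt g) d := by
      conv_rhs => rw [← Finsupp.single_add_erase w d]
      rw [map_add, Finsupp.weight_single]
    have hle1 := congrArg Prod.fst hle
    have hle2 := congrArg Prod.snd hle
    simp only [Prod.fst_add, Prod.snd_add, Prod.smul_fst, Prod.smul_snd, smul_eq_mul] at hle1 hle2
    rw [hwd.1] at hle1
    rw [hwd.2] at hle2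
    obtain _ | ⟨⟨a, b⟩, hab⟩ := w
    · exact hy
    obtain ⟨hab1, hab2, ⟨r, hab3⟩, hab4⟩ := id hab
    simp only [wt] at hle1 hle2 hab3
    have ha : a = 0 := by
      rcases Nat.eq_zero_or_pos a with h | h
      · exact h
      · have := Nat.mul_le_mul hdw h; omega
    subst ha
    have hb : b ≤ 2 * i := by
      have := Nat.mul_le_mul hdw (le_refl b); omega
    have hb0 : b ≠ 0 := fun h => hab4 (by simp [h])
    have hbr : b = 2 * r := by omega
    subst hbr
    rcases Nat.lt_or_ge r i with hr | hr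
    · have := hlow r hr
      rwa [xv, if_neg (by omega), dif_pos ⟨le_rfl, by omega, by simpa [show (2 * (r : ℤ)).toNat = 2 * r by omega] using hab⟩] at this
    · exfalso
      obtain rfl : r = i := by omega
      have hone : d (some ⟨(0, 2 * r), hab⟩) = 1 := by
        refine le_antisymm ?_ hdw
        by_contra hgt
        have := Nat.mul_le_mul (show 2 ≤ d (some ⟨(0, 2 * r), hab⟩) by omega) (le_refl (2 * r)); omega
      rw [hone] at hle2
      refine hne ?_
      have he : d.erase (some ⟨(0, 2 * r), hab⟩) = 0 := by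
        ext u
        rw [Finsupp.coe_zero, Pi.zero_apply]
        by_contra hu
        have hwu : Finsupp.weight (wt g) (d.erase (some ⟨(0, 2 * r), hab⟩)) = 0 :=
          Prod.ext (by simp only [Prod.fst_zero]; omega) (by simp only [Prod.snd_zero]; omega)
        conv_lhs at hwu => rw [← Finsupp.single_add_erase u (d.erase (some ⟨(0, 2 * r), hab⟩))]
        rw [map_add, Finsupp.weight_single] at hwu
        have h41 := congrArg Prod.fst hwu
        have h42 := congrArg Prod.snd hwu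
        rcases u with _ | ⟨⟨a', b'⟩, hab'⟩
        · simp only [wt, Prod.snd_add, Prod.smul_snd, smul_eq_mul, Prod.snd_zero] at h42
          omega
        · simp only [wt, Prod.fst_add, Prod.snd_add, Prod.smul_fst, Prod.smul_snd, smul_eq_mul, Prod.fst_zero,
            Prod.snd_zero, Nat.add_eq_zero_iff, mul_eq_zero] at h41 h42
          exact hab'.2.2.2 (by simp; omega)
      rw [← Finsupp.single_add_erase (some ⟨(0, 2 * r), hab⟩) d, he, add_zero, hone]
  have hsum : monomial (Finsupp.single v 1) (coeff (Finsupp.single v 1) R) ∈ S := by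
    have h := hS R hmem
    rw [R.as_sum, ← Finset.add_sum_erase _ _ (mem_support_iff.2 hc)] at h
    have h2 : (∑ d ∈ R.support.erase (Finsupp.single v 1), monomial d (coeff d R)) ∈ S :=
      sum_mem fun d hd => hrest d (Finset.mem_of_mem_erase hd) (Finset.ne_of_mem_erase hd)
    have := sub_mem h h2
    rwa [add_sub_cancel_right] at this
  have h := S.smul_mem hsum (coeff (Finsupp.single v 1) R)⁻¹
  rw [smul_monomial, smul_eq_mul, inv_mul_cancel₀ hc] at h
  rwa [hxv]

end Groth.Agent.TautJac
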